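import Cfsg.Agent.Lib.Classes.OmegaEightThree.Basic
import Cfsg.Agent.Lib.Parabolic.OrthIndexTwo
import Cfsg.Agent.Lib.Fischer.Refl3
import Cfsg.Prelude.Def_Transfer

/-!
In the group generated by the reflections of norm one of the hyperbolic space of dimension eight
over the field with three elements, the elements fixing a vector of norm one and a non-zero
singular vector orthogonal to it form an extension of an elementary abelian group of order `3^5`
by the reflection group of norm one of a five-dimensional space of discriminant one.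
-/

set_option autoImplicit false

namespace CfsgLib.Fischer.PairTwentyFour.ReflStab

open CfsgLib.OrthGen CfsgLib.O83 Matrix QuadraticMap

/-- An extension of `3^5` by the reflection group. -/
def Shape5 (X : Type*) [Group X] : Prop :=
  ∃ (E : Subgroup X) (_ : E.Normal), Cfsg.IsElementaryAbelian 3 E ∧ Nat.card E = 3 ^ 5 ∧
    Cfsg.IsReflectionGroupModThree (X ⧸ E) 5 1 1

theorem Shape5.congr {X Y : Type*} [Group X] [Group Y] (φ : X ≃* Y) (h : Shape5 X) : Shape5 Y := by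
  obtain ⟨E, hE, ⟨hc, hp⟩, hcard, Q, hQ, hdet, ⟨e⟩⟩ := h
  haveI : (E.map φ.toMonoidHom).Normal := hE.map _ φ.surjective
  refine ⟨E.map φ.toMonoidHom, inferInstance, ⟨⟨⟨?_⟩⟩, ?_⟩, ?_, Q, hQ, hdet,
    ⟨(QuotientGroup.congr E (E.map φ.toMonoidHom) φ rfl).symm.trans e⟩⟩
  · rintro ⟨_, a, ha, rfl⟩ ⟨_, b, hb, rfl⟩
    refine Subtype.ext ?_
    show φ a * φ b = φ b * φ a
    rw [← map_mul, ← map_mul]
    exact congrArg φ (congrArg Subtype.val (hc.is_comm.comm ⟨a, ha⟩ ⟨b, hb⟩))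
  · rintro _ ⟨a, ha, rfl⟩
    show φ a ^ 3 = 1
    rw [← map_pow, hp a ha, map_one]
  · rw [← hcard]
    exact (Nat.card_congr (E.equivMapOfInjective _ φ.injective).toEquiv).symm

/-- The isometries fixing two vectors. -/
def fixer (u w : V8) : Subgroup G8 where
  carrier := {g | act Q8 g u = u ∧ act Q8 g w = w}
  one_mem' := ⟨act_one u, act_one w⟩
  mul_mem' := fun {g h} hg hh => ⟨by rw [act_mul, hh.1, hg.1], by rw [act_mul, hh.2, hg.2]⟩
  inv_mem' := fun {g} hg => ⟨(congrArg _ hg.1).symm.trans (act_inv_act g u),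
    (congrArg _ hg.2).symm.trans (act_inv_act g w)⟩

/-- The reflection group of norm one. -/
abbrev R8 : Subgroup G8 := Cfsg.reflectionSubgroup (⇑Q8) 1

/-- The elements of the reflection group fixing two vectors. -/
def stab (u w : V8) : Subgroup G8 := R8 ⊓ fixer u w

/-! ### The standard pair -/

/-- The vector of norm one. -/
def u0 : V8 := Sum.elim ![1, 0, 0, 0] ![1, 0, 0, 0]

/-- The singular vector. -/
def e1 : V8 := Sum.elim ![0, 1, 0, 0] ![0, 0, 0, 0]

/-- Its partner. -/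
def f1 : V8 := Sum.elim ![0, 0, 0, 0] ![0, 1, 0, 0]

/-- The five-dimensional complement. -/
def emb : (Fin 5 → F3) →ₗ[F3] V8 where
  toFun x := Sum.elim ![x 0, 0, x 1, x 3] ![-x 0, 0, x 2, x 4]
  map_add' x y := funext fun i => by rcases i with i | i <;> fin_cases i <;> simp [add_comm]
  map_smul' c x := funext fun i => by rcases i with i | i <;> fin_cases i <;> simp

/-- The projection to the complement. -/
def prj : V8 →ₗ[F3] (Fin 5 → F3) where
  toFun y := ![y (.inl 0), y (.inl 2), y (.inr 2), y (.inl 3), y (.inr 3)]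
  map_add' x y := funext fun i => by fin_cases i <;> simp
  map_smul' c x := funext fun i => by fin_cases i <;> simp

/-- The form on the complement. -/
noncomputable def Qw : QuadraticForm F3 (Fin 5 → F3) := Q8.comp emb

lemma Q8_apply (v : V8) : Q8 v = v (.inl 0) * v (.inr 0) + v (.inl 1) * v (.inr 1) +
    v (.inl 2) * v (.inr 2) + v (.inl 3) * v (.inr 3) := by
  show Cfsg.quadFormPlus 4 F3 v = _
  simp [Cfsg.quadFormPlus, Fin.sum_univ_four]

lemma pf8 (x y : V8) : pf Q8 x y =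
    x (.inl 0) * y (.inr 0) + x (.inr 0) * y (.inl 0) + (x (.inl 1) * y (.inr 1) + x (.inr 1) * y (.inl 1)) +
    (x (.inl 2) * y (.inr 2) + x (.inr 2) * y (.inl 2)) + (x (.inl 3) * y (.inr 3) + x (.inr 3) * y (.inl 3)) := by
  simp only [pf, QuadraticMap.polar, Q8_apply, Pi.add_apply]
  ring

/-- The form on the complement as a polynomial. -/
def qF (x : Fin 5 → F3) : F3 := -(x 0 * x 0) + x 1 * x 2 + x 3 * x 4

lemma Qw_coe : (⇑Qw : (Fin 5 → F3) → F3) = qF := by
  funext x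
  rw [Qw, QuadraticMap.comp_apply, Q8_apply]
  simp [emb, qF]

lemma Q8_emb (x : Fin 5 → F3) : Q8 (emb x) = Qw x := rfl

lemma pf_emb (x y : Fin 5 → F3) : pf Q8 (emb x) (emb y) = pf Qw x y := by
  simp only [pf, QuadraticMap.polar, ← map_add, Q8_emb]

lemma prj_emb (x : Fin 5 → F3) : prj (emb x) = x := funext fun i => by fin_cases i <;> simp [prj, emb]

lemma prj_e1 : prj e1 = 0 := funext fun i => by fin_cases i <;> simp [prj, e1]

lemma prj_f1 : prj f1 = 0 := funext fun i => by fin_cases i <;> simp [prj, f1]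

lemma pf_u0_emb (x : Fin 5 → F3) : pf Q8 u0 (emb x) = 0 := by rw [pf8]; simp [u0, emb]

lemma pf_e1_emb (x : Fin 5 → F3) : pf Q8 e1 (emb x) = 0 := by rw [pf8]; simp [e1, emb]

lemma pf_f1_emb (x : Fin 5 → F3) : pf Q8 f1 (emb x) = 0 := by rw [pf8]; simp [f1, emb]

lemma pf_u0_e1 : pf Q8 u0 e1 = 0 := by rw [pf8]; simp [u0, e1]

lemma pf_u0_f1 : pf Q8 u0 f1 = 0 := by rw [pf8]; simp [u0, f1]

lemma pf_e1_f1 : pf Q8 e1 f1 = 1 := by rw [pf8]; simp [e1, f1]

lemma Q8_u0 : Q8 u0 = 1 := by rw [Q8_apply]; simp [u0]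

lemma Q8_e1 : Q8 e1 = 0 := by rw [Q8_apply]; simp [e1]

lemma Q8_f1 : Q8 f1 = 0 := by rw [Q8_apply]; simp [f1]

lemma decomp (y : V8) : ∃ (a : F3) (x : Fin 5 → F3),
    y = a • u0 + y (.inl 1) • e1 + y (.inr 1) • f1 + emb x := by
  refine ⟨-(y (.inl 0) + y (.inr 0)),
    ![y (.inl 0) + (y (.inl 0) + y (.inr 0)), y (.inl 2), y (.inr 2), y (.inl 3), y (.inr 3)], ?_⟩
  funext i
  rcases i with i | i <;> fin_cases i <;> simp [u0, e1, f1, emb]
  all_goals linear_combination (y (.inl 0) + y (.inr 0)) * three_eq_zero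

lemma decomp_orth {y : V8} (hu : pf Q8 u0 y = 0) (he : pf Q8 e1 y = 0) :
    y = emb (prj y) + y (.inl 1) • e1 := by
  rw [pf8] at hu he
  simp [u0, e1] at hu he
  funext i
  rcases i with i | i <;> fin_cases i <;> simp [e1, emb, prj, he]
  linear_combination hu

lemma fix_u0 (g : fixer u0 e1) : act Q8 (g : G8) u0 = u0 := g.2.1

lemma fix_e1 (g : fixer u0 e1) : act Q8 (g : G8) e1 = e1 := g.2.2

lemma pf_fix_u0 (g : fixer u0 e1) (y : V8) : pf Q8 u0 (act Q8 (g : G8) y) = pf Q8 u0 y := by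
  have h := pf_act (g : G8) u0 y
  rwa [fix_u0 g] at h

lemma pf_fix_e1 (g : fixer u0 e1) (y : V8) : pf Q8 e1 (act Q8 (g : G8) y) = pf Q8 e1 y := by
  have h := pf_act (g : G8) e1 y
  rwa [fix_e1 g] at h

lemma act_emb (g : fixer u0 e1) (x : Fin 5 → F3) : act Q8 (g : G8) (emb x) =
    emb (prj (act Q8 (g : G8) (emb x))) + act Q8 (g : G8) (emb x) (.inl 1) • e1 := by
  apply decomp_orth
  · rw [pf_fix_u0, pf_u0_emb]
  · rw [pf_fix_e1, pf_e1_emb]

/-- The induced linear map on the complement. -/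
noncomputable def indLin (g : fixer u0 e1) : (Fin 5 → F3) →ₗ[F3] (Fin 5 → F3) :=
  prj ∘ₗ lin (g : G8) ∘ₗ emb

lemma indLin_apply (g : fixer u0 e1) (x : Fin 5 → F3) :
    indLin g x = prj (act Q8 (g : G8) (emb x)) := rfl

lemma indLin_mul (g h : fixer u0 e1) (x : Fin 5 → F3) :
    indLin (g * h) x = indLin g (indLin h x) := by
  simp only [indLin_apply, Subgroup.coe_mul, act_mul]
  conv_lhs => rw [act_emb h x, act_add, act_smul, fix_e1, map_add, map_smul, prj_e1, smul_zero, add_zero]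

lemma indLin_one (x : Fin 5 → F3) : indLin 1 x = x := by
  rw [indLin_apply, OneMemClass.coe_one, act_one, prj_emb]

lemma Qw_indLin (g : fixer u0 e1) (x : Fin 5 → F3) : Qw (indLin g x) = Qw x := by
  have h : Q8 (act Q8 (g : G8) (emb x)) = Q8 (emb x) := Q_act _ _
  rw [act_emb g x, Q_add, Q_smul, Q8_e1, pf, QuadraticMap.polar_smul_right] at h
  rw [← indLin_apply] at h
  have he : polar (⇑Q8) (emb (indLin g x)) e1 = 0 := (pf_comm Q8 _ _).trans (pf_e1_emb _)
  rw [he, Q8_emb, Q8_emb] at h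
  simpa using h

/-- The induced isometry. -/
noncomputable def indIso (g : fixer u0 e1) : Cfsg.isometryGroup F3 (⇑Qw) :=
  mkIso Qw (LinearMap.toMatrix' (indLin g)) (LinearMap.toMatrix' (indLin g⁻¹))
    (by rw [← LinearMap.toMatrix'_comp, ← LinearMap.toMatrix'_id]
        exact congrArg _ (LinearMap.ext fun x => by
          rw [LinearMap.comp_apply, ← indLin_mul, mul_inv_cancel, indLin_one, LinearMap.id_apply]))
    (by rw [← LinearMap.toMatrix'_comp, ← LinearMap.toMatrix'_id]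
        exact congrArg _ (LinearMap.ext fun x => by
          rw [LinearMap.comp_apply, ← indLin_mul, inv_mul_cancel, indLin_one, LinearMap.id_apply]))
    (fun x => by rw [LinearMap.toMatrix'_mulVec]; exact Qw_indLin g x)

lemma act_indIso (g : fixer u0 e1) (x : Fin 5 → F3) :
    act Qw (indIso g) x = prj (act Q8 (g : G8) (emb x)) := by
  rw [act, indIso, coe_mkIso, LinearMap.toMatrix'_mulVec, indLin_apply]

/-- The projection onto the isometry group of the complement. -/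
noncomputable def piHom : fixer u0 e1 →* Cfsg.isometryGroup F3 (⇑Qw) :=
  MonoidHom.mk' indIso fun g h => ext_act fun x => by
    rw [act_mul, act_indIso, act_indIso, act_indIso]
    exact indLin_mul g h x

lemma refl_emb_fix {v : Fin 5 → F3} (hv : Q8 (emb v) ≠ 0) :
    refl Q8 hv ∈ fixer u0 e1 :=
  ⟨act_refl_of_orth Q8 hv ((pf_comm Q8 _ _).trans (pf_u0_emb v)),
    act_refl_of_orth Q8 hv ((pf_comm Q8 _ _).trans (pf_e1_emb v))⟩

lemma piHom_refl {v : Fin 5 → F3} (hv8 : Q8 (emb v) ≠ 0) (hv : Qw v ≠ 0) :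
    piHom ⟨refl Q8 hv8, refl_emb_fix hv8⟩ = refl Qw hv := by
  refine ext_act fun x => ?_
  show act Qw (indIso _) x = _
  rw [act_indIso]
  show prj (act Q8 (refl Q8 hv8) (emb x)) = _
  rw [act_refl, act_refl, pf_emb, ← map_smul, ← map_sub, prj_emb, Q8_emb]

lemma mem_R8 {v : V8} (hv : Q8 v ≠ 0) (h : Q8 v = 1) : refl Q8 hv ∈ R8 := Refl3.refl_mem hv h

/-! ### The kernel -/

/-- The parameter of an element of the kernel. -/
noncomputable def zf (g : fixer u0 e1) : Fin 5 → F3 := prj (act Q8 (g : G8) f1)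

lemma act_f1 (g : fixer u0 e1) : ∃ t : F3, act Q8 (g : G8) f1 = emb (zf g) + t • e1 + f1 := by
  set y := act Q8 (g : G8) f1 with hy
  have h0 : pf Q8 u0 (y - f1) = 0 := by
    rw [Orth.pf_sub_right, pf_u0_f1, sub_zero, hy, pf_fix_u0, pf_u0_f1]
  have h1 : pf Q8 e1 (y - f1) = 0 := by
    rw [Orth.pf_sub_right, hy, pf_fix_e1, sub_self]
  refine ⟨(y - f1) (.inl 1), ?_⟩
  have h := decomp_orth h0 h1
  rw [map_sub, prj_f1, sub_zero] at h
  show y = emb (prj y) + _ • e1 + f1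
  rw [← h, sub_add_cancel]

lemma act_emb_ker {g : fixer u0 e1} (hg : piHom g = 1) (x : Fin 5 → F3) :
    ∃ l : F3, act Q8 (g : G8) (emb x) = emb x + l • e1 ∧ l = -pf Qw (zf g) x := by
  refine ⟨act Q8 (g : G8) (emb x) (.inl 1), ?_, ?_⟩
  · conv_lhs => rw [act_emb g x]
    rw [← act_indIso, show indIso g = piHom g from rfl, hg, act_one]
  · obtain ⟨t, ht⟩ := act_f1 g
    have h : pf Q8 (act Q8 (g : G8) f1) (act Q8 (g : G8) (emb x)) = 0 := by rw [pf_act, pf_f1_emb]
    have e : act Q8 (g : G8) (emb x) = emb x + act Q8 (g : G8) (emb x) (.inl 1) • e1 := by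
      conv_lhs => rw [act_emb g x]
      rw [← act_indIso, show indIso g = piHom g from rfl, hg, act_one]
    rw [e, ht] at h
    simp only [Orth.pf_add_left, Orth.pf_add_right, Orth.pf_smul_left, Orth.pf_smul_right, pf_emb,
      pf_e1_emb, pf_f1_emb, pf_comm Q8 (emb (zf g)) e1, pf_comm Q8 f1 e1, pf_e1_f1, pf_self, Q8_e1,
      mul_zero, add_zero, mul_one, zero_add] at h
    linear_combination h

lemma zf_mul {g : fixer u0 e1} (hg : piHom g = 1) (h : fixer u0 e1) :
    zf (g * h) = zf g + zf h := by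
  obtain ⟨t, ht⟩ := act_f1 h
  obtain ⟨l, hl, -⟩ := act_emb_ker hg (zf h)
  show prj (act Q8 ((g * h : fixer u0 e1) : G8) f1) = _
  rw [Subgroup.coe_mul, act_mul, ht, act_add, act_add, act_smul, fix_e1, hl]
  simp only [map_add, map_smul, prj_emb, prj_e1, smul_zero, add_zero]
  rw [add_comm]
  rfl

lemma zf_one : zf 1 = 0 := by
  show prj (act Q8 ((1 : fixer u0 e1) : G8) f1) = 0
  rw [OneMemClass.coe_one, act_one, prj_f1]

lemma eq_one_of_zf {g : fixer u0 e1} (hg : piHom g = 1) (hz : zf g = 0) : g = 1 := by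
  obtain ⟨t, ht⟩ := act_f1 g
  rw [hz, map_zero, zero_add] at ht
  have ht0 : t = 0 := by
    have h : Q8 (act Q8 (g : G8) f1) = 0 := by rw [Q_act, Q8_f1]
    rw [ht, Q_add, Q_smul, Q8_e1, Q8_f1, Orth.pf_smul_left, pf_e1_f1] at h
    simpa using h
  rw [ht0, zero_smul, zero_add] at ht
  refine Subtype.ext (ext_act fun y => ?_)
  obtain ⟨a, x, e⟩ := decomp y
  obtain ⟨l, hl, hl'⟩ := act_emb_ker hg x
  rw [hz] at hl'
  have hl0 : l = 0 := by
    rw [hl', show (0 : Fin 5 → F3) = (0 : F3) • (0 : Fin 5 → F3) from (zero_smul _ _).symm,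
      Orth.pf_smul_left, zero_mul, neg_zero]
  rw [OneMemClass.coe_one, act_one, e]
  simp only [act_add, act_smul, fix_u0, fix_e1, ht, hl, hl0, zero_smul, add_zero]

/-- The parameters of the kernel inside the reflection group. -/
def zSet : AddSubgroup (Fin 5 → F3) where
  carrier := {z | ∃ g : fixer u0 e1, (g : G8) ∈ R8 ∧ piHom g = 1 ∧ zf g = z}
  zero_mem' := ⟨1, one_mem _, map_one _, zf_one⟩
  add_mem' := by
    rintro _ _ ⟨g, hg, hg1, rfl⟩ ⟨h, hh, hh1, rfl⟩
    exact ⟨g * h, mul_mem hg hh, by rw [map_mul, hg1, hh1, mul_one], zf_mul hg1 h⟩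
  neg_mem' := by
    rintro _ ⟨g, hg, hg1, rfl⟩
    refine ⟨g⁻¹, inv_mem hg, by rw [map_inv, hg1, inv_one], ?_⟩
    have h := zf_mul hg1 g⁻¹
    rw [mul_inv_cancel, zf_one] at h
    exact eq_neg_of_add_eq_zero_right h.symm

lemma norm_one_mem_zSet {v : Fin 5 → F3} (hv : qF v = 1) : -v ∈ zSet := by
  have hQ : Qw v = 1 := by rw [Qw_coe]; exact hv
  have ha : Q8 (emb v) ≠ 0 := by rw [Q8_emb, hQ]; exact one_ne_zero
  have hb1 : Q8 (emb v + e1) = 1 := by
    rw [Q_add, Q8_emb, hQ, Q8_e1, pf_comm, pf_e1_emb, add_zero, add_zero]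
  have hb : Q8 (emb v + e1) ≠ 0 := by rw [hb1]; exact one_ne_zero
  have hfb : refl Q8 hb ∈ fixer u0 e1 := by
    refine ⟨act_refl_of_orth Q8 hb ?_, act_refl_of_orth Q8 hb ?_⟩
    · rw [Orth.pf_add_left, pf_comm Q8 _ u0, pf_u0_emb, pf_comm Q8 _ u0, pf_u0_e1, add_zero]
    · rw [Orth.pf_add_left, pf_comm Q8 _ e1, pf_e1_emb, pf_self, Q8_e1, mul_zero, add_zero]
  let g : fixer u0 e1 := ⟨refl Q8 hb, hfb⟩ * ⟨refl Q8 ha, refl_emb_fix ha⟩
  refine ⟨g, mul_mem (mem_R8 hb hb1) (mem_R8 ha (by rw [Q8_emb, hQ])), ?_, ?_⟩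
  · refine ext_act fun x => ?_
    show act Qw (indIso g) x = _
    rw [act_indIso, act_one]
    show prj (act Q8 (refl Q8 hb * refl Q8 ha) (emb x)) = x
    rw [act_mul, act_refl, act_refl, Q8_emb, hQ, hb1, inv_one, one_mul, one_mul]
    have hQ8 : Q8 (emb v) = 1 := hQ
    simp only [Orth.pf_add_left, Orth.pf_sub_right, Orth.pf_smul_right, pf_emb, pf_e1_emb, pf_self,
      hQ8, hQ, map_sub, map_add, map_smul, prj_emb, prj_e1, mul_zero, sub_zero, add_zero, smul_zero]
    match_scalars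
    · rfl
    · linear_combination (0 : F3) * three_eq_zero
  · show prj (act Q8 (refl Q8 hb * refl Q8 ha) f1) = -v
    rw [act_mul, act_refl_of_orth Q8 ha (by rw [pf_comm, pf_f1_emb]), act_refl, hb1, inv_one, one_mul,
      Orth.pf_add_left, pf_comm Q8 _ f1, pf_f1_emb, pf_e1_f1, zero_add, one_smul]
    simp [map_sub, map_add, prj_emb, prj_e1, prj_f1]

lemma zSet_eq_top : zSet = ⊤ := by
  have key : ∀ z : Fin 5 → F3, ∃ a b c d e : Fin 3, z = (a : ℕ) • -(![0, 1, 1, 0, 0] : Fin 5 → F3) +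
      (b : ℕ) • -(![0, 0, 0, 1, 1] : Fin 5 → F3) + (c : ℕ) • -(![1, 1, -1, 0, 0] : Fin 5 → F3) +
      (d : ℕ) • -(![1, 0, 0, 1, -1] : Fin 5 → F3) + (e : ℕ) • -(![0, 1, -1, 1, -1] : Fin 5 → F3) := by
    decide +kernel
  refine eq_top_iff.2 fun z _ => ?_
  obtain ⟨a, b, c, d, e, rfl⟩ := key z
  refine add_mem (add_mem (add_mem (add_mem ?_ ?_) ?_) ?_) ?_ <;>
    exact AddSubgroup.nsmul_mem _ (norm_one_mem_zSet (by decide +kernel)) _

lemma ker_le_R8 {g : fixer u0 e1} (hg : piHom g = 1) : (g : G8) ∈ R8 := by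
  obtain ⟨h, hh, hh1, hz⟩ : zf g ∈ zSet := zSet_eq_top ▸ AddSubgroup.mem_top _
  have h2 : piHom (h⁻¹ * g) = 1 := by rw [map_mul, map_inv, hg, hh1, inv_one, one_mul]
  have h3 : zf (h⁻¹ * g) = 0 := by
    have e := zf_mul hh1 (h⁻¹ * g)
    rw [mul_inv_cancel_left, hz] at e
    exact add_eq_left.1 e.symm
  rw [inv_mul_eq_one.1 (eq_one_of_zf h2 h3)] at hh
  exact hh

/-! ### The image -/

lemma nondeg_Qw : (QuadraticMap.polarBilin Qw).Nondegenerate := by
  have key : ∀ x : Fin 5 → F3, (∀ j, qF (x + Pi.single j 1) - qF x - qF (Pi.single j 1) = 0) → x = 0 := by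
    decide +kernel
  refine ⟨fun x hx => key x fun j => ?_, fun x hx => key x fun j => ?_⟩
  · have h := hx (Pi.single j 1)
    rwa [QuadraticMap.polarBilin_apply_apply, QuadraticMap.polar, Qw_coe] at h
  · have h := hx (Pi.single j 1)
    rw [QuadraticMap.polarBilin_apply_apply, QuadraticMap.polar_comm, QuadraticMap.polar, Qw_coe] at h
    exact h

lemma det_Qw : Cfsg.polarGramDet (⇑Qw) = 1 := by
  rw [Qw_coe, Cfsg.polarGramDet, Matrix.det_apply']
  decide +kernel

lemma index_reflectionSubgroup {ι : Type} [Fintype ι] [DecidableEq ι] {Q : QuadraticForm F3 (ι → F3)}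
    (hQ : (QuadraticMap.polarBilin Q).Nondegenerate) (hn : 5 ≤ Fintype.card ι) :
    (Cfsg.reflectionSubgroup (⇑Q) 1).index = 2 := by
  have e : Cfsg.reflectionSubgroup (⇑Q) 1 = reflClassGroup Q 1 := by
    unfold Cfsg.reflectionSubgroup reflClassGroup Cfsg.reflectionsOfNorm
    congr 1
    ext g
    constructor
    · rintro ⟨v, hv, hg⟩
      exact ⟨v, 1, one_ne_zero, by rw [hv]; ring, hg⟩
    · rintro ⟨v, t, ht, hv, hg⟩
      refine ⟨v, ?_, hg⟩
      rw [hv, pow_two, Refl3.sq_eq t ht, mul_one]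
  rw [e]
  exact index_reflClassGroup Refl3.two_ne hQ (by omega) (Or.inl hn) one_ne_zero

lemma f3_cases : ∀ a : F3, a ≠ 0 → a = 1 ∨ a = -1 := by decide

/-- The reflections of norm minus one are outside. -/
lemma refl_not_mem_R8 {v : V8} (hv : Q8 v ≠ 0) (h : Q8 v = -1) : refl Q8 hv ∉ R8 := by
  intro hmem
  have hi : R8.index = 2 := index_reflectionSubgroup nondeg_Q8 (by simp)
  haveI : R8.Normal := Subgroup.normal_of_index_eq_two hi
  have htop : R8 = ⊤ := by
    rw [eq_top_iff, ← closure_reflSet Refl3.two_ne nondeg_Q8, Subgroup.closure_le]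
    rintro _ ⟨w, hw, rfl⟩
    rcases f3_cases _ hw with h1 | h1
    · exact mem_R8 hw h1
    have hlin : ∀ x : V8, Q8 x = -1 → LinearIndependent F3 (fun _ : Unit => x) := fun x hx =>
      linearIndependent_unique_iff.2 fun h0 => by
        rw [show x = 0 from h0, QuadraticMap.map_zero] at hx
        exact absurd hx (by decide)
    obtain ⟨g, hg⟩ := exists_isometry_of_gram (hlin v h) (hlin w h1) fun _ _ => by
      rw [Bf_self, Bf_self, h, h1]
    have hgv : act Q8 g v = w := hg ()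
    have hconj := Subgroup.Normal.conj_mem inferInstance _ hmem g
    rw [conj_refl] at hconj
    have hsame : ∀ {a : V8} (ha : Q8 a ≠ 0), a = w → refl Q8 ha = refl Q8 hw :=
      fun ha e => by subst e; rfl
    rwa [hsame _ hgv] at hconj
  rw [htop, Subgroup.index_top] at hi
  exact absurd hi (by decide)

lemma exists_lift {r : Cfsg.isometryGroup F3 (⇑Qw)} (hr : r ∈ Cfsg.reflectionSubgroup (⇑Qw) 1) :
    ∃ g : fixer u0 e1, (g : G8) ∈ R8 ∧ piHom g = r := by
  induction hr using Subgroup.closure_induction with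
  | mem r hr =>
    obtain ⟨v, hv, hq, rfl⟩ := (Refl3.mem_iff one_ne_zero).1 hr
    have hv8 : Q8 (emb v) ≠ 0 := by rw [Q8_emb]; exact hv
    exact ⟨⟨refl Q8 hv8, refl_emb_fix hv8⟩, mem_R8 hv8 hq, piHom_refl hv8 hv⟩
  | one => exact ⟨1, one_mem _, map_one _⟩
  | mul a b _ _ ha hb =>
    obtain ⟨g, hg, rfl⟩ := ha
    obtain ⟨h, hh, rfl⟩ := hb
    exact ⟨g * h, mul_mem hg hh, map_mul _ _ _⟩
  | inv a _ ha =>
    obtain ⟨g, hg, rfl⟩ := ha
    exact ⟨g⁻¹, inv_mem hg, map_inv _ _⟩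

lemma piHom_mem {g : fixer u0 e1} (hg : (g : G8) ∈ R8) :
    piHom g ∈ Cfsg.reflectionSubgroup (⇑Qw) 1 := by
  by_contra hn
  have hi := index_reflectionSubgroup nondeg_Qw (le_of_eq (Fintype.card_fin 5).symm)
  obtain ⟨a, ⟨v, hv, rfl⟩, ha⟩ : ∃ a ∈ reflSet Qw, a ∉ Cfsg.reflectionSubgroup (⇑Qw) 1 := by
    by_contra h
    push Not at h
    have := (Subgroup.closure_le _).2 h
    rw [closure_reflSet Refl3.two_ne nondeg_Qw, top_le_iff] at this
    rw [this, Subgroup.index_top] at hi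
    exact absurd hi (by decide)
  have hv1 : Qw v = -1 := (f3_cases _ hv).resolve_left fun h => ha (Refl3.refl_mem hv h)
  have hp : piHom g * refl Qw hv ∈ Cfsg.reflectionSubgroup (⇑Qw) 1 :=
    (Subgroup.mul_mem_iff_of_index_two hi).2 ⟨fun h => absurd h hn, fun h => absurd h ha⟩
  obtain ⟨r, hr, hrp⟩ := exists_lift hp
  have hv8 : Q8 (emb v) ≠ 0 := by rw [Q8_emb]; exact hv
  let b : fixer u0 e1 := ⟨refl Q8 hv8, refl_emb_fix hv8⟩
  have hb : piHom b = refl Qw hv := piHom_refl hv8 hv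
  have hk : piHom (r⁻¹ * (g * b)) = 1 := by
    rw [map_mul, map_inv, map_mul, hrp, hb, inv_mul_cancel]
  have h2 := ker_le_R8 hk
  simp only [Subgroup.coe_mul, InvMemClass.coe_inv] at h2
  rw [Subgroup.mul_mem_cancel_left _ (inv_mem hr), Subgroup.mul_mem_cancel_left _ hg] at h2
  exact refl_not_mem_R8 hv8 hv1 h2

/-- The projection on the stabiliser. -/
noncomputable def stabHom : stab u0 e1 →* Cfsg.isometryGroup F3 (⇑Qw) :=
  piHom.comp (Subgroup.inclusion inf_le_right)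

theorem range_stabHom : stabHom.range = Cfsg.reflectionSubgroup (⇑Qw) 1 := by
  refine le_antisymm ?_ fun r hr => ?_
  · rintro _ ⟨g, rfl⟩
    exact piHom_mem (g := ⟨g, g.2.2⟩) g.2.1
  · obtain ⟨g, hg, rfl⟩ := exists_lift hr
    exact ⟨⟨g, hg, g.2⟩, rfl⟩

theorem shape_std : Shape5 (stab u0 e1) := by
  let j : stabHom.ker →* fixer u0 e1 :=
    (Subgroup.inclusion (inf_le_right : stab u0 e1 ≤ fixer u0 e1)).comp stabHom.ker.subtype
  have hker : ∀ g, piHom (j g) = 1 := fun g => MonoidHom.mem_ker.1 g.2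
  have hjinj : Function.Injective j :=
    (Subgroup.inclusion_injective (inf_le_right : stab u0 e1 ≤ fixer u0 e1)).comp
      Subtype.val_injective
  let z : stabHom.ker → (Fin 5 → F3) := fun g => zf (j g)
  have hadd : ∀ g h, z (g * h) = z g + z h := fun g h => by
    show zf (j (g * h)) = zf (j g) + zf (j h)
    rw [map_mul, zf_mul (hker g)]
  have hinj : Function.Injective z := by
    intro g h e
    have h1 : z (g⁻¹ * h) = 0 := by
      have := hadd g (g⁻¹ * h)
      rw [mul_inv_cancel_left, ← e] at this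
      exact add_eq_left.1 this.symm
    have h2 : g⁻¹ * h = 1 := hjinj (by rw [map_one]; exact eq_one_of_zf (hker _) h1)
    exact inv_mul_eq_one.1 h2
  have hsurj : Function.Surjective z := fun y => by
    obtain ⟨g, hg, hg1, rfl⟩ : y ∈ zSet := zSet_eq_top ▸ AddSubgroup.mem_top _
    exact ⟨⟨⟨g, hg, g.2⟩, hg1⟩, rfl⟩
  refine ⟨stabHom.ker, inferInstance, ⟨⟨⟨fun g h => hinj ?_⟩⟩, fun g hg => ?_⟩, ?_,
    Qw, nondeg_Qw, det_Qw, ⟨(QuotientGroup.quotientKerEquivRange stabHom).trans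
      (MulEquiv.subgroupCongr range_stabHom)⟩⟩
  · rw [hadd, hadd, add_comm]
  · refine congrArg Subtype.val (a₁ := (⟨g, hg⟩ : stabHom.ker) ^ 3) (a₂ := 1) (hinj ?_)
    have h1 : z 1 = 0 := by
      show zf (j 1) = 0
      rw [map_one, zf_one]
    rw [pow_succ, pow_succ, pow_one, hadd, hadd, h1]
    funext i
    simp only [Pi.add_apply, Pi.zero_apply]
    linear_combination (z ⟨g, hg⟩ i) * three_eq_zero
  · rw [Nat.card_congr (Equiv.ofBijective z ⟨hinj, hsurj⟩), Nat.card_fun, Nat.card_fin, Nat.card_zmod]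

/-- Moving the pair moves the stabiliser. -/
theorem map_stab (g : G8) (u w : V8) :
    (stab u w).map (MulAut.conj g).toMonoidHom = stab (act Q8 g u) (act Q8 g w) := by
  haveI : R8.Normal := Subgroup.normal_of_index_eq_two (index_reflectionSubgroup nondeg_Q8 (by simp))
  ext x
  constructor
  · rintro ⟨y, ⟨hy, hyu, hyw⟩, rfl⟩
    refine ⟨Subgroup.Normal.conj_mem inferInstance _ hy g, ?_, ?_⟩ <;>
      simp [MulAut.conj_apply, act_mul, act_inv_act, hyu, hyw]
  · rintro ⟨hx, hxu, hxw⟩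
    refine ⟨g⁻¹ * x * g, ⟨?_, ?_, ?_⟩, by simp [MulAut.conj_apply, mul_assoc]⟩
    · have := Subgroup.Normal.conj_mem inferInstance _ hx g⁻¹
      rwa [inv_inv] at this
    · rw [act_mul, act_mul, hxu, act_inv_act]
    · rw [act_mul, act_mul, hxw, act_inv_act]

/-- The stabiliser of a vector of norm one and a singular vector orthogonal to it. -/
theorem shape_stab {u w : V8} (hu : Q8 u = 1) (hw0 : w ≠ 0) (hw : Q8 w = 0) (huw : pf Q8 u w = 0) :
    Shape5 (stab u w) := by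
  have hB : ∀ x y, Bf x y = pf Q8 x y := Bf_polar
  have hli : ∀ p q : V8, Q8 p = 1 → q ≠ 0 → pf Q8 p q = 0 → LinearIndependent F3 ![p, q] := by
    intro p q hp hq hpq
    refine LinearIndependent.pair_iff.2 fun a b hab => ?_
    have h := congrArg (pf Q8 p) hab
    have h0 : pf Q8 p 0 = 0 := QuadraticMap.polar_zero_right Q8 p
    rw [Orth.pf_add_right, Orth.pf_smul_right, Orth.pf_smul_right, pf_self, hp, hpq, h0,
      mul_zero, add_zero, mul_one] at h
    have ha : a = 0 := (mul_eq_zero.1 h).resolve_right two_ne_zero8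
    subst ha
    rw [zero_smul, zero_add, smul_eq_zero] at hab
    exact ⟨rfl, hab.resolve_right hq⟩
  obtain ⟨g, hg⟩ := exists_isometry_of_gram (hli u0 e1 Q8_u0 (fun h => by
      have := congrFun h (.inl 1); simp [e1] at this) pf_u0_e1) (hli u w hu hw0 huw) fun i j => by
    fin_cases i <;> fin_cases j <;>
      simp [hB, pf_self, hu, hw, huw, Q8_u0, Q8_e1, pf_u0_e1, pf_comm Q8 w u, pf_comm Q8 e1 u0]
  have hgu : act Q8 g u0 = u := hg 0
  have hgw : act Q8 g e1 = w := hg 1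
  have h := shape_std.congr (((MulAut.conj g).subgroupMap (stab u0 e1)).trans
    (MulEquiv.subgroupCongr (map_stab g u0 e1)))
  rw [hgu, hgw] at h
  exact h

end CfsgLib.Fischer.PairTwentyFour.ReflStab
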